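import Mathlib

/-!
The Néron mapping property in terms of morphisms out of open subschemes.
-/

set_option autoImplicit false
universe u
open CategoryTheory CategoryTheory.Limits AlgebraicGeometry

namespace Groth.Agent.NeronMap

variable {S : Scheme.{u}} (U : S.Opens)

/-- Every `S`-morphism `Y_U → Z` has exactly one extension to `Y`. -/
def ExtUnique {Y Z : Scheme.{u}} (q : Y ⟶ S) (p : Z ⟶ S) : Prop :=
  ∀ h : (q ⁻¹ᵁ U : Scheme.{u}) ⟶ Z, h ≫ p = (q ⁻¹ᵁ U).ι ≫ q →
    ∃! g : Y ⟶ Z, g ≫ p = q ∧ (q ⁻¹ᵁ U).ι ≫ g = h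

theorem bijective_pullback_map_iff (Y Z : Over S) :
    Function.Bijective (fun g : Y ⟶ Z => (Over.pullback U.ι).map g) ↔
      ExtUnique U Y.hom Z.hom := by
  have hP := (isPullback_morphismRestrict Y.hom U).flip
  set e := hP.isoPullback with he
  have hfst : e.hom ≫ pullback.fst Y.hom U.ι = (Y.hom ⁻¹ᵁ U).ι := hP.isoPullback_hom_fst
  have hmap : ∀ g : Y ⟶ Z, ((Over.pullback U.ι).map g).left ≫ pullback.fst Z.hom U.ι =
      pullback.fst Y.hom U.ι ≫ g.left := fun g => pullback.lift_fst _ _ _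
  have hsnd : ∀ k : (Over.pullback U.ι).obj Y ⟶ (Over.pullback U.ι).obj Z,
      k.left ≫ pullback.snd Z.hom U.ι = pullback.snd Y.hom U.ι := fun k => Over.w k
  have hext : ∀ k k' : (Over.pullback U.ι).obj Y ⟶ (Over.pullback U.ι).obj Z,
      e.hom ≫ k.left ≫ pullback.fst Z.hom U.ι = e.hom ≫ k'.left ≫ pullback.fst Z.hom U.ι → k = k' :=
    fun k k' h => Over.OverMorphism.ext (pullback.hom_ext ((cancel_epi e.hom).mp h)
      ((hsnd k).trans (hsnd k').symm))
  have hres : ∀ g : Y ⟶ Z, e.hom ≫ ((Over.pullback U.ι).map g).left ≫ pullback.fst Z.hom U.ι =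
      (Y.hom ⁻¹ᵁ U).ι ≫ g.left := fun g => by rw [hmap, ← Category.assoc, hfst]
  constructor
  · rintro ⟨hinj, hsurj⟩ h hh
    let k : (Over.pullback U.ι).obj Y ⟶ (Over.pullback U.ι).obj Z :=
      Over.homMk (pullback.lift (e.inv ≫ h) (pullback.snd Y.hom U.ι) (by
        rw [← pullback.condition, Category.assoc, hh, ← hfst, ← Category.assoc, ← Category.assoc,
          Iso.inv_hom_id, Category.id_comp])) (pullback.lift_snd _ _ _)
    obtain ⟨g, hg⟩ := hsurj k
    have hk : e.hom ≫ k.left ≫ pullback.fst Z.hom U.ι = h :=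
      (congrArg (e.hom ≫ ·) (pullback.lift_fst _ _ _)).trans (e.hom_inv_id_assoc h)
    refine ⟨g.left, ⟨Over.w g, ?_⟩, fun g' hg' => ?_⟩
    · rw [← hres g]
      rw [show (Over.pullback U.ι).map g = k from hg]
      exact hk
    · have : Over.homMk g' hg'.1 = g := hinj (hext _ _ (by
        rw [hres, hres]
        refine hg'.2.trans ?_
        rw [← hres g, show (Over.pullback U.ι).map g = k from hg]
        exact hk.symm))
      rw [← this]
      rfl
  · intro H
    constructor
    · intro g g' hgg'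
      have h1 := congrArg (fun k => e.hom ≫ CommaMorphism.left k ≫ pullback.fst Z.hom U.ι) hgg'
      simp only [hres] at h1
      exact Over.OverMorphism.ext ((H ((Y.hom ⁻¹ᵁ U).ι ≫ g.left) (by rw [Category.assoc, Over.w g])).unique
        ⟨Over.w g, rfl⟩ ⟨Over.w g', h1.symm⟩)
    · intro k
      obtain ⟨g, ⟨hg1, hg2⟩, -⟩ := H (e.hom ≫ k.left ≫ pullback.fst Z.hom U.ι) (by
        rw [Category.assoc, Category.assoc, pullback.condition, ← Category.assoc k.left, hsnd k,
          ← pullback.condition, ← Category.assoc, hfst])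
      exact ⟨Over.homMk g hg1, hext _ _ ((hres _).trans hg2)⟩

theorem bijective_counit_comp_iff (Y Z : Over S) :
    Function.Bijective (fun g : Y ⟶ Z => (Over.mapPullbackAdj U.ι).counit.app Y ≫ g) ↔
      ExtUnique U Y.hom Z.hom := by
  rw [← bijective_pullback_map_iff]
  have : (fun g : Y ⟶ Z => (Over.mapPullbackAdj U.ι).counit.app Y ≫ g) =
      ((Over.mapPullbackAdj U.ι).homEquiv _ _).symm ∘ (fun g : Y ⟶ Z => (Over.pullback U.ι).map g) := by
    funext g
    simp only [Function.comp_apply, Adjunction.homEquiv_counit]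
    exact ((Over.mapPullbackAdj U.ι).counit.naturality g).symm
  rw [this, Equiv.comp_bijective]

end Groth.Agent.NeronMap
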